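import Mathlib
import Cfsg.Agent.H529.FSolv_m3
import Cfsg.Agent.FastGrp
import Cfsg.Agent.Prune
set_option linter.all false
prune_inst 0x7f00000000000000000000000000000000000000000000000000000000000000000000000000000000000000000000000000000000000000000000000000000000000000000000000000000000000000003fffffffffffffffffffffffffffbeffbdffffffff
open scoped Cfsg.Agent.FastGrp

/-!
# Class sizes prime to `r` and Sylow subgroups
-/

set_option autoImplicit false
set_option linter.unusedSectionVars false

namespace Cfsg.Agent.H532.Thr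

open Subgroup
open scoped Pointwise

universe u

variable {N : Type u} [Group N] [Finite N] {r : ℕ} [hr : Fact r.Prime]

theorem exists_sylow_of_index {C : Subgroup N} (h : ¬ r ∣ C.index) : ∃ P : Sylow r N, (P : Subgroup N) ≤ C := by
  let Q : Sylow r C := default
  have h1 : Nat.card ↥((Q : Subgroup C).map C.subtype) = r ^ (Nat.card N).factorization r := by
    rw [Nat.card_congr ((Q : Subgroup C).equivMapOfInjective C.subtype C.subtype_injective).symm.toEquiv]
    have h2 := Q.card_eq_multiplicity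
    rw [← C.card_mul_index, Nat.factorization_mul Nat.card_pos.ne' Subgroup.index_ne_zero_of_finite,
      Finsupp.add_apply, Nat.factorization_eq_zero_of_not_dvd h, add_zero]
    exact h2
  refine ⟨Sylow.ofCard _ h1, ?_⟩
  rintro _ ⟨x, -, rfl⟩
  exact x.2

theorem RF.exists_sylow {n : N} (h : RF r n) : ∃ P : Sylow r N, ∀ y ∈ P, y * n = n * y := by
  obtain ⟨P, hP⟩ := exists_sylow_of_index h
  exact ⟨P, fun y hy => Subgroup.mem_centralizer_singleton_iff.1 (hP hy)⟩

theorem RF.of_sylow {n : N} (P : Sylow r N) (h : ∀ y ∈ P, y * n = n * y) : RF r n := by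
  intro h1
  have h2 : (P : Subgroup N) ≤ centralizer ({n} : Set N) := fun y hy =>
    Subgroup.mem_centralizer_singleton_iff.2 (h y hy)
  exact P.not_dvd_index (h1.trans (Subgroup.index_dvd_of_le h2))

theorem mem_smul_sylow {P : Sylow r N} {g y : N} : y ∈ g • P ↔ g⁻¹ * y * g ∈ P := by
  show y ∈ MulAut.conj g • (P : Subgroup N) ↔ _
  rw [Subgroup.mem_pointwise_smul_iff_inv_smul_mem]
  show (MulAut.conj g)⁻¹ y ∈ (P : Subgroup N) ↔ _
  rw [← map_inv, MulAut.conj_apply, inv_inv]
  rfl

theorem RF.exists_conj (P : Sylow r N) {n : N} (h : RF r n) :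
    ∃ g, ∀ y ∈ P, y * (g * n * g⁻¹) = (g * n * g⁻¹) * y := by
  obtain ⟨Q, hQ⟩ := h.exists_sylow
  obtain ⟨g, rfl⟩ := MulAction.exists_smul_eq N Q P
  refine ⟨g, fun y hy => ?_⟩
  have h1 := hQ _ (mem_smul_sylow.1 hy)
  calc y * (g * n * g⁻¹) = g * ((g⁻¹ * y * g) * n) * g⁻¹ := by group
    _ = g * (n * (g⁻¹ * y * g)) * g⁻¹ := by rw [h1]
    _ = g * n * g⁻¹ * y := by group

/-- all class sizes are prime to `r`: the Sylow `r`-subgroup is central -/
theorem central_of_rf (h : ∀ n : N, RF r n) (P : Sylow r N) {y : N} (hy : y ∈ P) (n : N) : y * n = n * y := by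
  have h1 : centralizer ((P : Subgroup N) : Set N) = ⊤ := by
    apply eq_top_of_cover
    intro n
    obtain ⟨g, hg⟩ := (h n).exists_conj P
    exact ⟨g, mem_centralizer_iff.2 fun y hy => hg y hy⟩
  have h2 : n ∈ centralizer ((P : Subgroup N) : Set N) := by rw [h1]; exact mem_top _
  exact mem_centralizer_iff.1 h2 y hy

theorem rf_of_central (P : Sylow r N) (h : ∀ y ∈ P, ∀ n, y * n = n * y) (n : N) : RF r n :=
  RF.of_sylow P fun y hy => h y hy n

/-- A Sylow subgroup contained in `D`, all of whose elements have class size prime to `r`. -/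
theorem centralizes_of_rf {D : Subgroup N} (P : Sylow r N) (hD : ∀ Q : Sylow r N, (Q : Subgroup N) ≤ D)
    (h : ∀ d ∈ D, RF r d) {y : N} (hy : y ∈ P) {d : N} (hd : d ∈ D) : y * d = d * y := by
  have h1 : ∀ n : D, RF r n := by
    intro n
    obtain ⟨Q, hQ⟩ := (h n n.2).exists_sylow
    refine RF.of_sylow (Q.subtype (hD Q)) fun z hz => Subtype.ext ?_
    exact hQ z (Subgroup.mem_subgroupOf.1 hz)
  have h2 := central_of_rf h1 (P.subtype (hD P)) (y := ⟨y, hD P hy⟩) (Subgroup.mem_subgroupOf.2 hy) ⟨d, hd⟩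
  exact congrArg Subtype.val h2

theorem sylow_normal_of_rf {D : Subgroup N} (P : Sylow r N) (hD : ∀ Q : Sylow r N, (Q : Subgroup N) ≤ D)
    (h : ∀ d ∈ D, RF r d) : (P : Subgroup N).Normal := by
  have h1 : ∀ Q : Sylow r N, Q = P := by
    intro Q
    have h2 : (Q : Subgroup N) ≤ normalizer (P : Set N) := by
      refine le_trans ?_ (centralizer_le_normalizer _)
      intro y hy
      rw [mem_centralizer_iff]
      intro z hz
      exact centralizes_of_rf P hD h hz (hD Q hy)
    have h3 := Q.isPGroup'.inf_normalizer_sylow P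
    rw [inf_eq_left.2 h2] at h3
    have h4 : (Q : Subgroup N) ≤ P := by
      rw [h3]; exact inf_le_right
    exact (Sylow.ext (Q.is_maximal' P.isPGroup' h4)).symm
  have : Subsingleton (Sylow r N) := ⟨fun x y => (h1 x).trans (h1 y).symm⟩
  exact P.normal_of_subsingleton

end Cfsg.Agent.H532.Thr
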